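import Mathlib
import Cfsg.Agent.Lib.SzChar.Num
import Cfsg.Agent.Lib.Char.CompleteCor
import Cfsg.Agent.Lib.Char.LinearChars
import Cfsg.Agent.Lib.Char.Ortho
import Cfsg.Agent.Lib.Char.Basic
import Cfsg.Agent.Lib.Char.Values

/-!
# Columns attached to a trivial-intersection abelian subgroup

For an abelian subgroup `A` with `C(x) = A` for all `1 ≠ x ∈ A` and a nontrivial linear character
`l` of `A`, the integer column `χ ↦ ⟨χ|_A, l⟩ - ⟨χ|_A, 1⟩` has Gram matrix computed by column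
orthogonality.
-/

set_option autoImplicit false
set_option linter.unusedSectionVars false
set_option linter.style.haveILetI false

namespace Cfsg.Agent.Lib.SzChar.Torus

open Cfsg Cfsg.Agent.Lib.Char.CompleteCor Cfsg.Agent.Lib.SzChar.Num
open scoped ComplexConjugate
open Finset

universe u

variable {G : Type u} [Group G] [Fintype G] [Fintype (IrrCharacter G)]

/-- The hypotheses on a torus. -/
structure TorusHyp (A : Subgroup G) : Prop where
  comm : ∀ x ∈ A, ∀ y ∈ A, x * y = y * x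
  cent : ∀ x ∈ A, x ≠ 1 → ∀ g : G, g * x = x * g → g ∈ A

section Col

variable (A : Subgroup G) [Fintype A]

/-- The column function. -/
noncomputable def gc (l : A →* ℂˣ) (χ : G → ℂ) : ℂ :=
  (Nat.card A : ℂ)⁻¹ * ∑ x : A, χ x * (conj ((l x : ℂˣ) : ℂ) - 1)

theorem card_ne_zero : (Nat.card A : ℂ) ≠ 0 := by
  exact_mod_cast Nat.card_pos.ne'

variable {A}

theorem conj_hom (l : A →* ℂˣ) (x : A) : conj ((l x : ℂˣ) : ℂ) = ((l⁻¹ x : ℂˣ) : ℂ) := by
  have h := (Cfsg.Agent.Lib.Char.Complete.isIrr_inv (Cfsg.Agent.Lib.Char.LinearChars.isIrr_of_hom l) x).symm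
  rw [h, MonoidHom.inv_apply, map_inv]

theorem sum_hom (μ : A →* ℂˣ) (hμ : μ ≠ 1) : ∑ x : A, ((μ x : ℂˣ) : ℂ) = 0 := by
  obtain ⟨y, hy⟩ : ∃ y, μ y ≠ 1 := by
    by_contra hc
    push Not at hc
    exact hμ (MonoidHom.ext (by simpa using hc))
  have h1 : ((μ y : ℂˣ) : ℂ) * ∑ x : A, ((μ x : ℂˣ) : ℂ) = ∑ x : A, ((μ x : ℂˣ) : ℂ) := by
    rw [Finset.mul_sum]
    refine Eq.trans ?_ (Equiv.sum_comp (Equiv.mulLeft y) (fun x => ((μ x : ℂˣ) : ℂ)))
    refine Finset.sum_congr rfl fun x _ => ?_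
    simp
  have h2 : ((μ y : ℂˣ) : ℂ) ≠ 1 := fun h => hy (Units.ext h)
  have h3 : (((μ y : ℂˣ) : ℂ) - 1) * ∑ x : A, ((μ x : ℂˣ) : ℂ) = 0 := by
    rw [sub_mul, h1, one_mul, sub_self]
  exact (mul_eq_zero.mp h3).resolve_left (sub_ne_zero.mpr h2)

theorem inv_ne (l : A →* ℂˣ) (hl : l ≠ 1) : l⁻¹ ≠ 1 := by
  intro h
  apply hl
  ext x
  have h1 : l⁻¹ x = 1 := by rw [h]; rfl
  rw [MonoidHom.inv_apply, inv_eq_one] at h1
  rw [h1]
  rfl

theorem sum_one : ∑ _x : A, (1 : ℂ) = (Nat.card A : ℂ) := by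
  rw [Finset.sum_const, Finset.card_univ, nsmul_eq_mul, mul_one, Nat.card_eq_fintype_card]

theorem sum_u (l : A →* ℂˣ) (hl : l ≠ 1) :
    ∑ x : A, (conj ((l x : ℂˣ) : ℂ) - 1) = -(Nat.card A : ℂ) := by
  rw [Finset.sum_sub_distrib, sum_one]
  simp only [conj_hom]
  rw [sum_hom l⁻¹ (inv_ne l hl), zero_sub]

theorem gc_const (l : A →* ℂˣ) (hl : l ≠ 1) {χ : G → ℂ} {s : ℂ} (h : ∀ x : A, x ≠ 1 → χ x = s) :
    gc A l χ = -s := by
  unfold gc
  have h1 : ∀ x : A, χ x * (conj ((l x : ℂˣ) : ℂ) - 1) = s * (conj ((l x : ℂˣ) : ℂ) - 1) := by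
    intro x
    by_cases hx : x = 1
    · subst hx
      simp
    · rw [h x hx]
  simp only [h1]
  rw [← Finset.mul_sum, sum_u l hl]
  have := card_ne_zero A
  field_simp

theorem gc_eq_inner (l : A →* ℂˣ) (χ : G → ℂ) :
    gc A l χ = classInner (fun x : A => χ x) (fun x => ((l x : ℂˣ) : ℂ)) -
      classInner (fun x : A => χ x) (fun _ => (1 : ℂ)) := by
  unfold gc classInner
  rw [← mul_sub, ← Finset.sum_sub_distrib]
  congr 1
  refine Finset.sum_congr rfl fun x _ => ?_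
  simp only [map_one]
  ring

theorem gc_int (l : A →* ℂˣ) {χ : G → ℂ} (hχ : IsCharacter G χ) : ∃ z : ℤ, gc A l χ = z := by
  have h0 := Cfsg.Agent.Lib.Char.Basic.isCharacter_restrict hχ A
  obtain ⟨n, hn⟩ := Cfsg.Agent.Lib.Char.Ortho.exists_nat_classInner_of_isCharacter h0
    (Cfsg.Agent.Lib.Char.Basic.isCharacter_of_isIrrCharacter
      (Cfsg.Agent.Lib.Char.LinearChars.isIrr_of_hom l))
  have h1 : IsCharacter A (fun _ => (1 : ℂ)) := Cfsg.Agent.Lib.Char.Basic.isCharacter_one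
  obtain ⟨n', hn'⟩ := Cfsg.Agent.Lib.Char.Ortho.exists_nat_classInner_of_isCharacter h0 h1
  refine ⟨(n : ℤ) - n', ?_⟩
  rw [gc_eq_inner, hn, hn']
  push_cast
  ring

variable (A) in
/-- The integer column. -/
noncomputable def gz (l : A →* ℂˣ) (χ : IrrCharacter G) : ℤ :=
  Classical.choose (gc_int l (Cfsg.Agent.Lib.Char.Basic.isCharacter_of_isIrrCharacter χ.2))

theorem gz_spec (l : A →* ℂˣ) (χ : IrrCharacter G) : ((gz A l χ : ℤ) : ℂ) = gc A l χ.1 :=
  (Classical.choose_spec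
    (gc_int l (Cfsg.Agent.Lib.Char.Basic.isCharacter_of_isIrrCharacter χ.2))).symm

theorem sum_gc_gc (B : Subgroup G) [Fintype B] (l : A →* ℂˣ) (k : B →* ℂˣ) :
    ∑ χ : IrrCharacter G, gc A l χ.1 * conj (gc B k χ.1) =
      (Nat.card A : ℂ)⁻¹ * (Nat.card B : ℂ)⁻¹ * ∑ x : A, ∑ y : B,
        (conj ((l x : ℂˣ) : ℂ) - 1) * (((k y : ℂˣ) : ℂ) - 1) * conjCount (y : G) (x : G) := by
  classical
  have h1 : ∀ χ : IrrCharacter G, gc A l χ.1 * conj (gc B k χ.1) =
      (Nat.card A : ℂ)⁻¹ * (Nat.card B : ℂ)⁻¹ * ∑ x : A, ∑ y : B,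
        (conj ((l x : ℂˣ) : ℂ) - 1) * (((k y : ℂˣ) : ℂ) - 1) * (χ.1 x * conj (χ.1 y)) := by
    intro χ
    unfold gc
    rw [map_mul, map_inv₀, Complex.conj_natCast, map_sum]
    simp only [map_mul, map_sub, Complex.conj_conj, map_one]
    rw [mul_mul_mul_comm, Finset.sum_mul_sum]
    congr 1
    refine Finset.sum_congr rfl fun x _ => Finset.sum_congr rfl fun y _ => by ring
  simp only [h1]
  rw [← Finset.mul_sum]
  congr 1
  rw [Finset.sum_comm]
  refine Finset.sum_congr rfl fun x _ => ?_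
  rw [Finset.sum_comm]
  refine Finset.sum_congr rfl fun y _ => ?_
  rw [← Finset.mul_sum, conjCount_eq_sum]

theorem sum_gc_deg (l : A →* ℂˣ) :
    ∑ χ : IrrCharacter G, gc A l χ.1 * conj (χ.1 1) = 0 := by
  classical
  have h1 : ∀ χ : IrrCharacter G, gc A l χ.1 * conj (χ.1 1) =
      (Nat.card A : ℂ)⁻¹ * ∑ x : A, (conj ((l x : ℂˣ) : ℂ) - 1) * (χ.1 x * conj (χ.1 1)) := by
    intro χ
    unfold gc
    rw [mul_assoc, Finset.sum_mul]
    congr 1
    refine Finset.sum_congr rfl fun x _ => by ring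
  simp only [h1]
  rw [← Finset.mul_sum, Finset.sum_comm]
  have h2 : ∀ x : A, ∑ χ : IrrCharacter G, (conj ((l x : ℂˣ) : ℂ) - 1) * (χ.1 x * conj (χ.1 1)) = 0 := by
    intro x
    rw [← Finset.mul_sum, ← conjCount_eq_sum]
    by_cases hx : x = 1
    · subst hx
      simp
    · rw [conjCount_of_not_isConj, mul_zero]
      exact fun hc => hx (Subtype.ext (isConj_one_right.mp hc.symm))
  simp only [h2, Finset.sum_const_zero, mul_zero]

theorem sum_cross (B : Subgroup G) [Fintype B]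
    (hnc : ∀ x ∈ A, ∀ y ∈ B, x ≠ 1 → y ≠ 1 → ¬ IsConj x y) (l : A →* ℂˣ) (k : B →* ℂˣ) :
    ∑ χ : IrrCharacter G, gc A l χ.1 * conj (gc B k χ.1) = 0 := by
  rw [sum_gc_gc]
  have h : ∀ (x : A) (y : B),
      (conj ((l x : ℂˣ) : ℂ) - 1) * (((k y : ℂˣ) : ℂ) - 1) * conjCount (y : G) (x : G) = 0 := by
    intro x y
    by_cases hx : x = 1
    · subst hx
      simp
    by_cases hy : y = 1
    · subst hy
      simp
    rw [conjCount_of_not_isConj (hnc x x.2 y y.2 (fun h => hx (Subtype.ext h))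
      (fun h => hy (Subtype.ext h))), mul_zero]
  simp only [h, Finset.sum_const_zero, mul_zero]

end Col

section Act

variable {A : Subgroup G}

/-- The normalizer. -/
abbrev NN (A : Subgroup G) : Subgroup G := Subgroup.normalizer (A : Set G)

theorem conj_mem (n : NN A) {x : G} (hx : x ∈ A) : (n : G) * x * (n : G)⁻¹ ∈ A :=
  (Subgroup.mem_normalizer_iff.mp n.2 x).mp hx

/-- Conjugation on `A` by an element of the normalizer. -/
def sg (n : NN A) : A ≃ A where
  toFun x := ⟨n * x * (n : G)⁻¹, conj_mem n x.2⟩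
  invFun y := ⟨(n : G)⁻¹ * y * n, by
    have := conj_mem (n⁻¹) y.2
    simpa using this⟩
  left_inv x := by
    apply Subtype.ext
    simp only [mul_assoc]
    group
  right_inv y := by
    apply Subtype.ext
    simp only [mul_assoc]
    group

@[simp] theorem sg_coe (n : NN A) (x : A) : ((sg n x : A) : G) = n * x * (n : G)⁻¹ := rfl

/-- The conjugate linear character. -/
def act (n : NN A) (k : A →* ℂˣ) : A →* ℂˣ where
  toFun x := k (sg n x)
  map_one' := by
    have : sg n (1 : A) = 1 := by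
      apply Subtype.ext
      simp
    rw [this, map_one]
  map_mul' x y := by
    have : sg n (x * y) = sg n x * sg n y := by
      apply Subtype.ext
      simp only [sg_coe, Subgroup.coe_mul]
      group
    rw [this, map_mul]

@[simp] theorem act_apply (n : NN A) (k : A →* ℂˣ) (x : A) : act n k x = k (sg n x) := rfl

theorem act_ne_one {n : NN A} {k : A →* ℂˣ} (hk : k ≠ 1) : act n k ≠ 1 := by
  intro h
  apply hk
  ext y
  have h1 := congrArg (fun f : A →* ℂˣ => ((f ((sg n).symm y) : ℂˣ) : ℂ)) h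
  simpa using h1

theorem act_of_mem (hT : TorusHyp A) (n : NN A) (hn : (n : G) ∈ A) (k : A →* ℂˣ) : act n k = k := by
  ext x
  have : sg n x = x := by
    apply Subtype.ext
    rw [sg_coe, hT.comm _ hn _ x.2]
    group
  simp [this]

theorem act_mul (n₁ n₂ : NN A) (k : A →* ℂˣ) : act (n₁ * n₂) k = act n₂ (act n₁ k) := by
  ext x
  have : sg (n₁ * n₂) x = sg n₁ (sg n₂ x) := by
    apply Subtype.ext
    simp only [sg_coe, Subgroup.coe_mul]
    group
  simp [this]

theorem mem_of_act_eq (hT : TorusHyp A) [Finite A] {n : NN A} {k : A →* ℂˣ} (hk : k ≠ 1)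
    (h : act n k = k) : (n : G) ∈ A := by
  by_contra hn
  have hfpf : ∀ z : A, (n : G) * z * (n : G)⁻¹ = z → z = 1 := by
    intro z hz
    by_contra hz1
    apply hn
    apply hT.cent z z.2 (fun h => hz1 (Subtype.ext h))
    have h1 : (n : G) * z = (n : G) * z * (n : G)⁻¹ * n := by group
    rw [hz] at h1
    exact h1
  let ψ : A → A := fun x => x⁻¹ * sg n x
  have hinj : Function.Injective ψ := by
    intro x y hxy
    have h1 : ((x⁻¹ * sg n x : A) : G) = ((y⁻¹ * sg n y : A) : G) := congrArg Subtype.val hxy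
    simp only [Subgroup.coe_mul, Subgroup.coe_inv, sg_coe] at h1
    have hc1 : (n : G) * x * (n : G)⁻¹ * (y : G)⁻¹ = (y : G)⁻¹ * ((n : G) * x * (n : G)⁻¹) :=
      hT.comm _ (conj_mem n x.2) _ (A.inv_mem y.2)
    have hc2 : (n : G) * y * (n : G)⁻¹ * (x : G)⁻¹ = (x : G)⁻¹ * ((n : G) * y * (n : G)⁻¹) :=
      hT.comm _ (conj_mem n y.2) _ (A.inv_mem x.2)
    have h3 : (y : G) * (x : G)⁻¹ = (n : G) * y * (n : G)⁻¹ * ((n : G) * x * (n : G)⁻¹)⁻¹ := by
      have h4 : (x : G)⁻¹ * ((n : G) * x * (n : G)⁻¹) = (y : G)⁻¹ * ((n : G) * y * (n : G)⁻¹) := h1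
      have h5 : (y : G) * (x : G)⁻¹ * ((n : G) * x * (n : G)⁻¹) = (n : G) * y * (n : G)⁻¹ := by
        rw [mul_assoc, h4]
        group
      rw [← h5]
      group
    have h6 : (n : G) * ((y : G) * (x : G)⁻¹) * (n : G)⁻¹ = (y : G) * (x : G)⁻¹ := by
      calc (n : G) * ((y : G) * (x : G)⁻¹) * (n : G)⁻¹
          = (n : G) * y * (n : G)⁻¹ * ((n : G) * x * (n : G)⁻¹)⁻¹ := by group
        _ = _ := h3.symm
    have h7 := hfpf (y * x⁻¹) (by simpa using h6)
    have h8 : y = x := by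
      have := mul_inv_eq_one.mp h7
      exact this
    exact h8.symm
  have hsurj := Finite.surjective_of_injective hinj
  apply hk
  ext y
  obtain ⟨x, rfl⟩ := hsurj y
  have h1 : k (sg n x) = k x := by
    have := congrArg (fun f : A →* ℂˣ => f x) h
    simpa using this
  simp only [ψ, map_mul, map_inv, h1]
  simp

theorem conj_in_norm (hT : TorusHyp A) {x : G} (hx : x ∈ A) (hx1 : x ≠ 1) {g : G}
    (hg : g * x * g⁻¹ ∈ A) : g ∈ NN A := by
  rw [Subgroup.mem_normalizer_iff]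
  have hy1 : g * x * g⁻¹ ≠ 1 := by
    intro h
    apply hx1
    have : x = g⁻¹ * (g * x * g⁻¹) * g := by group
    rw [this, h]
    group
  intro h
  constructor
  · intro hh
    apply hT.cent _ hg hy1
    have := hT.comm _ hh _ hx
    calc g * h * g⁻¹ * (g * x * g⁻¹) = g * (h * x) * g⁻¹ := by group
      _ = g * (x * h) * g⁻¹ := by rw [this]
      _ = _ := by group
  · intro hh
    apply hT.cent _ hx hx1
    have := hT.comm _ hh _ hg
    have h2 : g * (h * x) * g⁻¹ = g * (x * h) * g⁻¹ := by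
      calc g * (h * x) * g⁻¹ = g * h * g⁻¹ * (g * x * g⁻¹) := by group
        _ = g * x * g⁻¹ * (g * h * g⁻¹) := this
        _ = _ := by group
    exact mul_left_cancel (mul_right_cancel h2)

variable [Fintype A] [Fintype (NN A)]

theorem sum_conjCount (hT : TorusHyp A) (x : A) (hx : x ≠ 1) (v : A → ℂ) :
    ∑ y : A, v y * conjCount (y : G) (x : G) = ∑ n : NN A, v (sg n x) := by
  classical
  have h1 : ∀ y : A, v y * conjCount (y : G) (x : G) =
      ∑ g : G, v y * (if g * (x : G) * g⁻¹ = (y : G) then 1 else 0) := by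
    intro y
    rw [← Finset.mul_sum]
    rfl
  simp only [h1]
  rw [Finset.sum_comm]
  symm
  refine Fintype.sum_of_injective (fun n : NN A => (n : G)) Subtype.val_injective _ _ ?_ ?_
  · intro g hg
    refine Finset.sum_eq_zero fun y _ => ?_
    rw [if_neg, mul_zero]
    intro he
    apply hg
    have hmem : g ∈ NN A := conj_in_norm hT x.2 (fun h => hx (Subtype.ext h)) (by rw [he]; exact y.2)
    exact ⟨⟨g, hmem⟩, rfl⟩
  · intro n
    rw [Finset.sum_eq_single (sg n x)]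
    · rw [if_pos (by simp), mul_one]
    · intro y _ hy
      rw [if_neg, mul_zero]
      intro he
      apply hy
      apply Subtype.ext
      rw [sg_coe, he]
    · intro hn
      exact absurd (Finset.mem_univ _) hn

theorem sum_self (hT : TorusHyp A) (l k : A →* ℂˣ) :
    (Nat.card A : ℂ) * (Nat.card A : ℂ) * ∑ χ : IrrCharacter G, gc A l χ.1 * conj (gc A k χ.1) =
      ∑ n : NN A, ∑ x : A, (conj ((l x : ℂˣ) : ℂ) - 1) * (((act n k x : ℂˣ) : ℂ) - 1) := by
  rw [sum_gc_gc, ← mul_assoc]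
  have hA := card_ne_zero A
  have e : (Nat.card A : ℂ) * (Nat.card A : ℂ) * ((Nat.card A : ℂ)⁻¹ * (Nat.card A : ℂ)⁻¹) = 1 := by
    field_simp
  rw [e, one_mul]
  refine Eq.trans ?_ Finset.sum_comm
  refine Finset.sum_congr rfl fun x _ => ?_
  by_cases hx : x = 1
  · subst hx
    simp
  · have h1 := sum_conjCount hT x hx (fun y => ((k y : ℂˣ) : ℂ) - 1)
    simp only [mul_assoc]
    rw [← Finset.mul_sum, h1, Finset.mul_sum]
    simp

omit [Fintype (NN A)] in
theorem sum_lk (l μ : A →* ℂˣ) (hl : l ≠ 1) (hμ : μ ≠ 1) [Decidable (μ = l)] :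
    ∑ x : A, (conj ((l x : ℂˣ) : ℂ) - 1) * (((μ x : ℂˣ) : ℂ) - 1) =
      (Nat.card A : ℂ) * (if μ = l then 1 else 0) + (Nat.card A : ℂ) := by
  have h1 : ∀ x : A, (conj ((l x : ℂˣ) : ℂ) - 1) * (((μ x : ℂˣ) : ℂ) - 1) =
      (((l⁻¹ * μ) x : ℂˣ) : ℂ) - (((l⁻¹) x : ℂˣ) : ℂ) - ((μ x : ℂˣ) : ℂ) + 1 := by
    intro x
    rw [conj_hom, MonoidHom.mul_apply, Units.val_mul]
    ring
  simp only [h1]
  rw [Finset.sum_add_distrib, Finset.sum_sub_distrib, Finset.sum_sub_distrib, sum_one,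
    sum_hom l⁻¹ (inv_ne l hl), sum_hom μ hμ]
  by_cases he : μ = l
  · subst he
    rw [if_pos rfl]
    have : (μ⁻¹ * μ) = 1 := inv_mul_cancel μ
    rw [this]
    simp only [MonoidHom.one_apply, Units.val_one]
    rw [sum_one]
    ring
  · rw [if_neg he, sum_hom (l⁻¹ * μ) (fun h => he (inv_mul_eq_one.mp h).symm)]
    ring

/-- The Gram formula. -/
theorem gram (hT : TorusHyp A) {e : ℕ} (hN : Nat.card (NN A) = e * Nat.card A) (l k : A →* ℂˣ)
    (hl : l ≠ 1) (hk : k ≠ 1) [DecidablePred (fun n : NN A => act n k = l)] :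
    (Nat.card A : ℂ) * ∑ χ : IrrCharacter G, gc A l χ.1 * conj (gc A k χ.1) =
      ((Finset.univ.filter (fun n : NN A => act n k = l)).card : ℂ) + (e : ℂ) * (Nat.card A : ℂ) := by
  classical
  have h1 := sum_self hT l k
  have hA := card_ne_zero A
  have h2 : ∀ n : NN A, ∑ x : A, (conj ((l x : ℂˣ) : ℂ) - 1) * (((act n k x : ℂˣ) : ℂ) - 1) =
      (Nat.card A : ℂ) * (if act n k = l then 1 else 0) + (Nat.card A : ℂ) :=
    fun n => sum_lk l (act n k) hl (act_ne_one hk)
  simp only [h2] at h1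
  rw [Finset.sum_add_distrib, ← Finset.mul_sum, Finset.sum_const, Finset.card_univ, nsmul_eq_mul,
    ← Nat.card_eq_fintype_card, hN, Finset.sum_boole] at h1
  push_cast at h1
  have h3 : (Nat.card A : ℂ) * ((Nat.card A : ℂ) * ∑ χ : IrrCharacter G, gc A l χ.1 * conj (gc A k χ.1)) =
      (Nat.card A : ℂ) * (((Finset.univ.filter (fun n : NN A => act n k = l)).card : ℂ) +
        (e : ℂ) * (Nat.card A : ℂ)) := by
    rw [← mul_assoc, h1]
    ring
  exact mul_left_cancel₀ hA h3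

theorem gc_act (n : NN A) (k : A →* ℂˣ) {χ : G → ℂ} (hχ : IsClassFunction G χ) :
    gc A (act n k) χ = gc A k χ := by
  unfold gc
  congr 1
  refine Eq.trans ?_ (Equiv.sum_comp (sg n) (fun y : A => χ y * (conj ((k y : ℂˣ) : ℂ) - 1)))
  refine Finset.sum_congr rfl fun x _ => ?_
  rw [act_apply, sg_coe, hχ]

end Act

section Fam

variable {A : Subgroup G} [Fintype A]

theorem comm' (hT : TorusHyp A) : ∀ a b : A, a * b = b * a := fun a b =>
  Subtype.ext (hT.comm _ a.2 _ b.2)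

omit [Fintype G] [Fintype (IrrCharacter G)] [Fintype A] in
theorem finite_dual' [Finite A] (hA : ∀ a b : A, a * b = b * a) : Finite (A →* ℂˣ) := by
  letI : CommGroup A := { (inferInstance : Group A) with mul_comm := hA }
  have hexp : NeZero ((Monoid.exponent A : ℕ) : ℂ) :=
    ⟨Nat.cast_ne_zero.2 Monoid.exponent_ne_zero_of_finite⟩
  have hroots : HasEnoughRootsOfUnity ℂ (Monoid.exponent A) := inferInstance
  obtain ⟨e⟩ := CommGroup.monoidHom_mulEquiv_of_hasEnoughRootsOfUnity A ℂ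
  exact Finite.of_equiv _ e.symm.toEquiv

omit [Fintype G] [Fintype (IrrCharacter G)] [Fintype A] in
theorem card_dual' [Finite A] (hA : ∀ a b : A, a * b = b * a) : Nat.card (A →* ℂˣ) = Nat.card A := by
  letI : CommGroup A := { (inferInstance : Group A) with mul_comm := hA }
  have hexp : NeZero ((Monoid.exponent A : ℕ) : ℂ) :=
    ⟨Nat.cast_ne_zero.2 Monoid.exponent_ne_zero_of_finite⟩
  have hroots : HasEnoughRootsOfUnity ℂ (Monoid.exponent A) := inferInstance
  exact CommGroup.card_monoidHom_of_hasEnoughRootsOfUnity A ℂ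

omit [Fintype G] [Fintype (IrrCharacter G)] [Fintype A] in
theorem exists_dual_ne' [Finite A] (hA : ∀ a b : A, a * b = b * a) {a : A} (ha : a ≠ 1) :
    ∃ φ : A →* ℂˣ, φ a ≠ 1 := by
  letI : CommGroup A := { (inferInstance : Group A) with mul_comm := hA }
  have hexp : NeZero ((Monoid.exponent A : ℕ) : ℂ) :=
    ⟨Nat.cast_ne_zero.2 Monoid.exponent_ne_zero_of_finite⟩
  have hroots : HasEnoughRootsOfUnity ℂ (Monoid.exponent A) := inferInstance
  exact CommGroup.exists_apply_ne_one_of_hasEnoughRootsOfUnity A ℂ ha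

/-- The nontrivial linear characters. -/
abbrev Lm (A : Subgroup G) := {l : A →* ℂˣ // l ≠ 1}

omit [Fintype G] [Fintype (IrrCharacter G)] [Fintype A] in
theorem card_Lm [Finite A] (hA : ∀ a b : A, a * b = b * a) : Nat.card (Lm A) + 1 = Nat.card A := by
  classical
  haveI := finite_dual' hA
  rw [← card_dual' hA, ← Finite.card_option]
  exact Nat.card_congr (Equiv.optionSubtypeNe (1 : A →* ℂˣ))

/-- The family of columns. -/
noncomputable def gzL (A : Subgroup G) [Fintype A] (l : Lm A) (χ : IrrCharacter G) : ℤ := gz A l.1 χ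

/-- The relation. -/
def relL (A : Subgroup G) (l k : Lm A) : Prop := ∃ n : NN A, act n k.1 = l.1

theorem conj_gc (l : A →* ℂˣ) (χ : IrrCharacter G) : conj (gc A l χ.1) = gc A l χ.1 := by
  rw [← gz_spec, map_intCast]

theorem cast_sum_gz (l k : A →* ℂˣ) :
    (((∑ χ : IrrCharacter G, gz A l χ * gz A k χ : ℤ)) : ℂ) =
      ∑ χ : IrrCharacter G, gc A l χ.1 * conj (gc A k χ.1) := by
  push_cast
  refine Finset.sum_congr rfl fun χ _ => ?_
  rw [gz_spec, gz_spec, conj_gc]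

theorem card_filter_self (hT : TorusHyp A) [Fintype (NN A)] (l : A →* ℂˣ) (hl : l ≠ 1)
    [DecidablePred (fun n : NN A => act n l = l)] :
    (Finset.univ.filter (fun n : NN A => act n l = l)).card = Nat.card A := by
  classical
  have h1 : Finset.univ.filter (fun n : NN A => act n l = l) =
      (Finset.univ : Finset A).image (fun a : A => (⟨a, Subgroup.le_normalizer a.2⟩ : NN A)) := by
    ext n
    simp only [Finset.mem_filter, Finset.mem_univ, true_and, Finset.mem_image]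
    constructor
    · intro h
      exact ⟨⟨n, mem_of_act_eq hT hl h⟩, rfl⟩
    · rintro ⟨a, rfl⟩
      exact act_of_mem hT _ a.2 l
  rw [h1, Finset.card_image_of_injective, Finset.card_univ, Nat.card_eq_fintype_card]
  intro a b hab
  exact Subtype.ext (congrArg (fun n : NN A => (n : G)) hab)

theorem fam (hT : TorusHyp A) {e : ℕ} (hN : Nat.card (NN A) = e * Nat.card A) [Fintype (Lm A)] :
    FamHyp (gzL A) (relL A) (fun χ : IrrCharacter G => ((charDegree χ.1 : ℕ) : ℤ)) e := by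
  classical
  haveI : Fintype (NN A) := Fintype.ofFinite _
  have hA := card_ne_zero A
  refine ⟨?_, ?_, ?_, ?_, ?_⟩
  · intro l
    have h1 := gram hT hN l.1 l.1 l.2 l.2
    rw [card_filter_self hT l.1 l.2, ← cast_sum_gz] at h1
    have h2 : (((∑ χ : IrrCharacter G, gz A l.1 χ * gz A l.1 χ : ℤ)) : ℂ) = ((e : ℂ) + 1) := by
      apply mul_left_cancel₀ hA
      rw [h1]
      ring
    have h3 : (∑ χ : IrrCharacter G, gz A l.1 χ * gz A l.1 χ : ℤ) = (e : ℤ) + 1 := by
      exact_mod_cast h2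
    simp only [gzL, sq]
    exact h3
  · intro l k hrel
    have h1 := gram hT hN l.1 k.1 l.2 k.2
    have h0 : Finset.univ.filter (fun n : NN A => act n k.1 = l.1) = ∅ := by
      rw [Finset.filter_eq_empty_iff]
      intro n _ hn
      exact hrel ⟨n, hn⟩
    rw [h0, ← cast_sum_gz] at h1
    have h2 : (((∑ χ : IrrCharacter G, gz A l.1 χ * gz A k.1 χ : ℤ)) : ℂ) = (e : ℂ) := by
      apply mul_left_cancel₀ hA
      rw [h1]
      simp
      ring
    have h3 : (∑ χ : IrrCharacter G, gz A l.1 χ * gz A k.1 χ : ℤ) = (e : ℤ) := by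
      exact_mod_cast h2
    exact h3
  · intro l
    have h1 := sum_gc_deg (A := A) l.1
    have h2 : ((∑ χ : IrrCharacter G, gz A l.1 χ * ((charDegree χ.1 : ℕ) : ℤ) : ℤ) : ℂ) = 0 := by
      rw [← h1]
      push_cast
      refine Finset.sum_congr rfl fun χ _ => ?_
      rw [gz_spec, Cfsg.Agent.Lib.Char.Values.IsCharacter.charDegree_cast
        (Cfsg.Agent.Lib.Char.Basic.isCharacter_of_isIrrCharacter χ.2), conj_apply_one χ.2]
    exact_mod_cast h2
  · rintro l k χ ⟨n, hn⟩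
    have h1 : ((gz A l.1 χ : ℤ) : ℂ) = ((gz A k.1 χ : ℤ) : ℂ) := by
      rw [gz_spec, gz_spec, ← hn, gc_act n k.1 (isIrr_classFunction χ.2)]
    exact_mod_cast h1
  · intro l s hs
    choose n hn using hs
    let f : (↥s) × A → NN A := fun p => (⟨p.2, Subgroup.le_normalizer p.2.2⟩ : NN A) * n p.1.1 p.1.2
    have hf : Function.Injective f := by
      rintro ⟨⟨k, hk⟩, a⟩ ⟨⟨k', hk'⟩, a'⟩ hab
      simp only [f] at hab
      have h1 : ∀ (k : Lm A) (hk : k ∈ s) (a : A),
          act ((⟨a, Subgroup.le_normalizer a.2⟩ : NN A) * n k hk) l.1 = k.1 := by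
        intro k hk a
        rw [act_mul, act_of_mem hT _ a.2 l.1, hn k hk]
      have h2 : k.1 = k'.1 := by
        rw [← h1 k hk a, ← h1 k' hk' a', hab]
      have h3 : k = k' := Subtype.ext h2
      subst h3
      have h4 := mul_right_cancel hab
      have h5 : a = a' := Subtype.ext (congrArg (fun x : NN A => (x : G)) h4)
      rw [h5]
    have h1 := Nat.card_le_card_of_injective f hf
    rw [Nat.card_prod, hN, Nat.card_eq_fintype_card (α := ↥s), Fintype.card_coe] at h1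
    exact Nat.le_of_mul_le_mul_right h1 Nat.card_pos

theorem gz_const (l : Lm A) (χ : IrrCharacter G) {s : ℤ} (h : ∀ x : A, x ≠ 1 → χ.1 x = (s : ℂ)) :
    gzL A l χ = -s := by
  have h1 : ((gzL A l χ : ℤ) : ℂ) = ((-s : ℤ) : ℂ) := by
    unfold gzL
    rw [gz_spec, gc_const l.1 l.2 h]
    push_cast
    rfl
  exact_mod_cast h1

theorem gz_conj (hr : ∀ x ∈ A, ∃ g : G, g * x * g⁻¹ = x⁻¹) (l : Lm A) (χ χ' : IrrCharacter G)
    (he : ∀ g, χ'.1 g = conj (χ.1 g)) : gzL A l χ' = gzL A l χ := by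
  have h1 : ((gzL A l χ' : ℤ) : ℂ) = ((gzL A l χ : ℤ) : ℂ) := by
    unfold gzL
    rw [gz_spec, gz_spec]
    unfold gc
    congr 1
    refine Finset.sum_congr rfl fun x _ => ?_
    congr 1
    rw [he, ← Cfsg.Agent.Lib.Char.Complete.isIrr_inv χ.2]
    obtain ⟨g, hg⟩ := hr x x.2
    rw [← hg]
    exact isIrr_classFunction χ.2 _ _
  exact_mod_cast h1

/-- The sum over the dual group at the identity. -/
theorem sum_dual_inner [Fintype (A →* ℂˣ)] (hA : ∀ a b : A, a * b = b * a) (w : A → ℂ) :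
    ∑ φ : A →* ℂˣ, classInner w (fun b => ((φ b : ℂˣ) : ℂ)) = w 1 := by
  classical
  simp only [classInner]
  rw [← Finset.mul_sum]
  have h1 : ∀ φ : A →* ℂˣ, ∑ g : A, w g * conj ((φ g : ℂˣ) : ℂ) =
      ∑ g : A, w g * ((φ g⁻¹ : ℂˣ) : ℂ) := by
    intro φ
    refine Finset.sum_congr rfl fun g _ => ?_
    rw [conj_hom, MonoidHom.inv_apply, map_inv]
  simp only [h1]
  rw [Finset.sum_comm]
  have h2 : ∀ g : A, ∑ φ : A →* ℂˣ, w g * ((φ g⁻¹ : ℂˣ) : ℂ) =
      if g = 1 then w 1 * (Nat.card A : ℂ) else 0 := by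
    intro g
    rw [← Finset.mul_sum]
    split_ifs with hg
    · subst hg
      simp only [inv_one, map_one, Units.val_one, Finset.sum_const, Finset.card_univ, nsmul_eq_mul,
        mul_one]
      rw [← Nat.card_eq_fintype_card, card_dual' hA]
    · have hg' : g⁻¹ ≠ 1 := inv_ne_one.mpr hg
      obtain ⟨φ₀, h0⟩ := exists_dual_ne' hA hg'
      have hmul : ((φ₀ g⁻¹ : ℂˣ) : ℂ) * ∑ φ : A →* ℂˣ, ((φ g⁻¹ : ℂˣ) : ℂ) =
          ∑ φ : A →* ℂˣ, ((φ g⁻¹ : ℂˣ) : ℂ) := by
        rw [Finset.mul_sum]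
        refine Eq.trans ?_ (Equiv.sum_comp (Equiv.mulLeft φ₀) (fun φ : A →* ℂˣ => ((φ g⁻¹ : ℂˣ) : ℂ)))
        refine Finset.sum_congr rfl fun φ _ => ?_
        simp
      have hne : ((φ₀ g⁻¹ : ℂˣ) : ℂ) ≠ 1 := fun h => h0 (Units.ext h)
      have : (((φ₀ g⁻¹ : ℂˣ) : ℂ) - 1) * ∑ φ : A →* ℂˣ, ((φ g⁻¹ : ℂˣ) : ℂ) = 0 := by
        rw [sub_mul, hmul, one_mul, sub_self]
      rw [(mul_eq_zero.1 this).resolve_left (sub_ne_zero.2 hne), mul_zero]
  simp only [h2]
  rw [Finset.sum_ite_eq' Finset.univ (1 : A), if_pos (Finset.mem_univ _)]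
  have := card_ne_zero A
  field_simp

theorem dvd_of_vanish (hT : TorusHyp A) [Fintype (Lm A)] (θ : IrrCharacter G)
    (hv : ∀ l : Lm A, gzL A l θ = 0) : ((Nat.card A : ℕ) : ℤ) ∣ ((charDegree θ.1 : ℕ) : ℤ) := by
  classical
  have hA := comm' hT
  haveI := finite_dual' hA
  letI : Fintype (A →* ℂˣ) := Fintype.ofFinite _
  set w : A → ℂ := fun x => θ.1 x with hw
  have h0 := Cfsg.Agent.Lib.Char.Basic.isCharacter_restrict
    (Cfsg.Agent.Lib.Char.Basic.isCharacter_of_isIrrCharacter θ.2) A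
  have h1 : IsCharacter A (fun _ => (1 : ℂ)) := Cfsg.Agent.Lib.Char.Basic.isCharacter_one
  obtain ⟨n, hn⟩ := Cfsg.Agent.Lib.Char.Ortho.exists_nat_classInner_of_isCharacter h0 h1
  have h2 : ∀ φ : A →* ℂˣ, classInner w (fun b => ((φ b : ℂˣ) : ℂ)) = (n : ℂ) := by
    intro φ
    by_cases hφ : φ = 1
    · subst hφ
      simpa using hn
    · have h3 := hv ⟨φ, hφ⟩
      have h4 : gc A φ θ.1 = 0 := by
        rw [← gz_spec]
        unfold gzL at h3
        simp only at h3
        rw [h3]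
        simp
      rw [gc_eq_inner, hn, sub_eq_zero] at h4
      exact h4
  have h3 := sum_dual_inner hA w
  simp only [h2, Finset.sum_const, Finset.card_univ, nsmul_eq_mul] at h3
  rw [← Nat.card_eq_fintype_card, card_dual' hA] at h3
  have h4 : ((charDegree θ.1 : ℕ) : ℂ) = θ.1 1 :=
    Cfsg.Agent.Lib.Char.Values.IsCharacter.charDegree_cast
      (Cfsg.Agent.Lib.Char.Basic.isCharacter_of_isIrrCharacter θ.2)
  have h5 : ((Nat.card A * n : ℕ) : ℂ) = ((charDegree θ.1 : ℕ) : ℂ) := by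
    push_cast
    rw [h3, h4]
    rfl
  have h6 : Nat.card A * n = charDegree θ.1 := by exact_mod_cast h5
  rw [← h6]
  exact ⟨(n : ℤ), by push_cast; ring⟩

end Fam

section Real

variable {A : Subgroup G}

/-- An involution in the normalizer inverts `A`. -/
theorem real_of_normalizer (hT : TorusHyp A) (hodd : Odd (Nat.card A))
    (h2 : 2 ∣ Nat.card (NN A)) : ∀ x ∈ A, ∃ g : G, g * x * g⁻¹ = x⁻¹ := by
  classical
  haveI : Fact (Nat.Prime 2) := ⟨Nat.prime_two⟩
  obtain ⟨t, ht⟩ := exists_prime_orderOf_dvd_card' 2 h2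
  have ht2 : t * t = 1 := by
    have := pow_orderOf_eq_one t
    rw [ht, sq] at this
    exact this
  have htn : (t : G) ∉ A := by
    intro hmem
    have h3 : orderOf (⟨t, hmem⟩ : A) ∣ Nat.card A := orderOf_dvd_natCard _
    have h4 : orderOf (⟨t, hmem⟩ : A) = orderOf t := by
      rw [← orderOf_injective A.subtype Subtype.val_injective]
      rw [← orderOf_injective (NN A).subtype Subtype.val_injective]
      rfl
    rw [h4, ht] at h3
    exact (Nat.not_even_iff_odd.mpr hodd) (even_iff_two_dvd.mpr h3)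
  have ht2' : (t : G) * t = 1 := congrArg Subtype.val ht2
  have hfpf : ∀ z : A, (t : G) * z * (t : G)⁻¹ = z → z = 1 := by
    intro z hz
    by_contra hz1
    apply htn
    apply hT.cent z z.2 (fun h => hz1 (Subtype.ext h))
    have h1 : (t : G) * z = (t : G) * z * (t : G)⁻¹ * t := by group
    rw [hz] at h1
    exact h1
  let ψ : A → A := fun x => x⁻¹ * sg t x
  have hinj : Function.Injective ψ := by
    intro x y hxy
    have h1 : ((x⁻¹ * sg t x : A) : G) = ((y⁻¹ * sg t y : A) : G) := congrArg Subtype.val hxy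
    simp only [Subgroup.coe_mul, Subgroup.coe_inv, sg_coe] at h1
    have h3 : (y : G) * (x : G)⁻¹ = (t : G) * y * (t : G)⁻¹ * ((t : G) * x * (t : G)⁻¹)⁻¹ := by
      have h4 : (x : G)⁻¹ * ((t : G) * x * (t : G)⁻¹) = (y : G)⁻¹ * ((t : G) * y * (t : G)⁻¹) := h1
      have h5 : (y : G) * (x : G)⁻¹ * ((t : G) * x * (t : G)⁻¹) = (t : G) * y * (t : G)⁻¹ := by
        rw [mul_assoc, h4]
        group
      rw [← h5]
      group
    have h6 : (t : G) * ((y : G) * (x : G)⁻¹) * (t : G)⁻¹ = (y : G) * (x : G)⁻¹ := by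
      calc (t : G) * ((y : G) * (x : G)⁻¹) * (t : G)⁻¹
          = (t : G) * y * (t : G)⁻¹ * ((t : G) * x * (t : G)⁻¹)⁻¹ := by group
        _ = _ := h3.symm
    have h7 := hfpf (y * x⁻¹) (by simpa using h6)
    have h8 : y = x := mul_inv_eq_one.mp h7
    exact h8.symm
  have hsurj := Finite.surjective_of_injective hinj
  intro x hx
  obtain ⟨z, hz⟩ := hsurj ⟨x, hx⟩
  have hz' : x = (z : G)⁻¹ * ((t : G) * z * (t : G)⁻¹) := by
    have := congrArg Subtype.val hz
    simpa [ψ] using this.symm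
  refine ⟨t, ?_⟩
  have htinv : (t : G)⁻¹ = t := inv_eq_of_mul_eq_one_left ht2'
  rw [hz', htinv]
  have e1 : (t : G) * ((z : G)⁻¹ * ((t : G) * z * t)) * t = (t : G) * (z : G)⁻¹ * t * z * (t * t) := by
    group
  rw [e1, ht2', mul_one]
  have e2 : ((z : G)⁻¹ * ((t : G) * z * t))⁻¹ = (t : G)⁻¹ * (z : G)⁻¹ * (t : G)⁻¹ * z := by
    group
  rw [e2, htinv]

end Real

section NonReal

variable {u : G}

/-- A non-real class gives a non-real irreducible character. -/
theorem exists_nonreal (hu : ¬ IsConj u u⁻¹) :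
    ∃ θ : IrrCharacter G, conj (θ.1 u) ≠ θ.1 u := by
  by_contra hc
  push Not at hc
  have h1 := column_orth_not_conj hu
  have h2 := column_orth_conj (IsConj.refl u)
  have h3 : ∀ χ : IrrCharacter G, (χ : G → ℂ) u * conj ((χ : G → ℂ) u⁻¹) =
      (χ : G → ℂ) u * conj ((χ : G → ℂ) u) := by
    intro χ
    rw [Cfsg.Agent.Lib.Char.Complete.isIrr_inv χ.2, hc χ, hc χ]
  simp only [h3] at h1
  rw [h1] at h2
  have h4 : (Nat.card (Subgroup.centralizer ({u} : Set G)) : ℂ) ≠ 0 := by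
    exact_mod_cast Nat.card_pos.ne'
  exact h4 h2.symm

end NonReal

end Cfsg.Agent.Lib.SzChar.Torus
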