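import Mathlib
import Cfsg.Agent.Lib.SzChar.Torus
import Cfsg.Agent.Lib.Suzuki.Tori3
import Cfsg.Agent.Lib.Suzuki.Zass
import Cfsg.Agent.Lib.Zass.Rows5
import Cfsg.Agent.Lib.Char.RealOver2

/-!
# The degrees of the irreducible characters of the Suzuki groups
-/

set_option autoImplicit false
set_option linter.unusedSectionVars false
set_option linter.style.haveILetI false
set_option linter.unusedSimpArgs false
set_option linter.deprecated false

namespace Cfsg.Agent.Lib.SzChar.Main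

open Cfsg Cfsg.Agent.Lib.SzChar.Num Cfsg.Agent.Lib.SzChar.Torus
  Cfsg.Agent.Lib.Suzuki.Basic Cfsg.Agent.Lib.Suzuki.Group Cfsg.Agent.Lib.Suzuki.Struct
  Cfsg.Agent.Lib.Suzuki.Order Cfsg.Agent.Lib.Suzuki.Zass Cfsg.Agent.Lib.Suzuki.Sub
  Cfsg.Agent.Lib.Suzuki.Syl Cfsg.Agent.Lib.Suzuki.Gen Cfsg.Agent.Lib.Suzuki.Fix
  Cfsg.Agent.Lib.Suzuki.Cent Cfsg.Agent.Lib.Suzuki.Types Cfsg.Agent.Lib.Suzuki.Tori1
  Cfsg.Agent.Lib.Suzuki.Tori2 Cfsg.Agent.Lib.Suzuki.Tori3
open scoped ComplexConjugate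

section Arith

theorem cop1 (m : ℕ) : IsCoprime ((2 : ℤ) ^ (2 * m + 1) - 1) (((2 : ℤ) ^ (2 * m + 1)) ^ 2 + 1) := by
  have hq : (2 : ℤ) ^ (2 * m + 1) = 2 * 2 ^ (2 * m) := by rw [pow_succ]; ring
  rw [hq]
  set k : ℤ := 2 ^ (2 * m)
  refine ⟨1 + (k - 1) * (2 * k + 1), -(k - 1), ?_⟩
  ring

theorem cop2 (m : ℕ) : IsCoprime ((2 : ℤ) ^ (2 * m + 1) + 2 ^ (m + 1) + 1)
    ((2 : ℤ) ^ (2 * m + 1) - 2 ^ (m + 1) + 1) := by
  have h1 : (2 : ℤ) ^ (2 * m + 1) = 2 * 2 ^ (2 * m) := by rw [pow_succ]; ring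
  have h2 : (2 : ℤ) ^ (m + 1) = 2 * 2 ^ m := by rw [pow_succ]; ring
  have h3 : IsCoprime ((2 : ℤ) ^ (2 * m + 1) + 2 ^ (m + 1) + 1) 2 := by
    refine ⟨1, -(2 ^ (2 * m) + 2 ^ m), ?_⟩
    rw [h1, h2]
    ring
  have h4 : IsCoprime ((2 : ℤ) ^ (2 * m + 1) + 2 ^ (m + 1) + 1) (2 ^ (m + 2)) := h3.pow_right
  have h5 := (h4.neg_right).add_mul_left_right 1
  have h6 : -(2 : ℤ) ^ (m + 2) + ((2 : ℤ) ^ (2 * m + 1) + 2 ^ (m + 1) + 1) * 1 =
      (2 : ℤ) ^ (2 * m + 1) - 2 ^ (m + 1) + 1 := by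
    have : (2 : ℤ) ^ (m + 2) = 2 * 2 ^ (m + 1) := by rw [pow_succ]; ring
    rw [this]
    ring
  rwa [h6] at h5

end Arith

section Cross

variable {G : Type*} [Group G] [Fintype G] [Fintype (IrrCharacter G)]

theorem sum_gz_cross {A B : Subgroup G} [Fintype A] [Fintype B]
    (hnc : ∀ x ∈ A, ∀ y ∈ B, x ≠ 1 → y ≠ 1 → ¬ IsConj x y) (l : A →* ℂˣ) (k : B →* ℂˣ) :
    ∑ χ : IrrCharacter G, gz A l χ * gz B k χ = 0 := by
  have h1 := sum_cross B hnc l k
  have h2 : ((∑ χ : IrrCharacter G, gz A l χ * gz B k χ : ℤ) : ℂ) = 0 := by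
    rw [← h1]
    push_cast
    refine Finset.sum_congr rfl fun χ _ => ?_
    rw [gz_spec, gz_spec, conj_gc]
  exact_mod_cast h2

end Cross

variable {F : Type*} [Field F] [Fintype F] {m : ℕ} (h : Hyp F m)
include h

theorem Dtorus : TorusHyp (Dsub h) := by
  refine ⟨?_, ?_⟩
  · rintro _ ⟨k, rfl⟩ _ ⟨l, rfl⟩
    rw [Dg_mul h, Dg_mul h, mul_comm]
  · rintro _ ⟨k, rfl⟩ hx g hg
    have hk : k ≠ 1 := by
      rintro rfl
      exact hx (Dg_one h)
    exact mem_D_of_comm h hk hg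

theorem Dg_oA_zero (k : Fˣ) : Dg h k • (oA 0 0 : Om F m) = oA 0 0 := by
  rw [Dg_oA h]
  simp

theorem T_conj (k : Fˣ) : Tg h * Dg h k * (Tg h)⁻¹ = Dg h k⁻¹ := by
  rw [Tg_mul_Dg h, mul_assoc, mul_inv_cancel, mul_one]

theorem T_mem : Tg h ∈ NN (Dsub h) := by
  rw [Subgroup.mem_normalizer_iff]
  intro x
  constructor
  · rintro ⟨k, rfl⟩
    exact ⟨k⁻¹, T_conj h k⟩
  · rintro ⟨k, hk⟩
    refine ⟨k⁻¹, ?_⟩
    have h1 : x = (Tg h)⁻¹ * (Tg h * x * (Tg h)⁻¹) * Tg h := by group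
    rw [h1, hk, Tg_inv h]
    have h2 := T_conj h k
    rw [Tg_inv h] at h2
    exact h2

theorem not_mem_D_T : Tg h ∉ Dsub h := by
  rintro ⟨k, hk⟩
  have h1 : Tg h • (oI : Om F m) = oI := by rw [hk, Dg_oI h]
  rw [Tg_oI h] at h1
  exact oA_ne_oI 0 0 h1

theorem mul_T_mem {b : G F m} (hb : b ∈ NN (Dsub h)) (hb' : b ∉ Dsub h) : b * Tg h ∈ Dsub h := by
  obtain ⟨k, hk⟩ := exists_unit_ne_one h
  have h1 : b * Dg h k * b⁻¹ ∈ Dsub h := (Subgroup.mem_normalizer_iff.mp hb _).mp ⟨k, rfl⟩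
  obtain ⟨k', hk'⟩ := h1
  have hk1 : k' ≠ 1 := by
    rintro rfl
    rw [Dg_one h] at hk'
    have : Dg h k = b⁻¹ * (b * Dg h k * b⁻¹) * b := by group
    rw [hk'] at this
    simp only [mul_one, inv_mul_cancel] at this
    have h2 : Dg h k = Dg h 1 := by rw [this, Dg_one h]
    exact hk (Dg_inj h h2)
  have hfix : ∀ w : Om F m, Dg h k • w = w → Dg h k' • (b • w) = b • w := by
    intro w hw
    rw [← hk', mul_smul, mul_smul, inv_smul_smul, hw]
  have hI := Dg_fix h hk1 (hfix _ (Dg_oI h k))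
  have h0 := Dg_fix h hk1 (hfix _ (Dg_oA_zero h k))
  have hne : (oI : Om F m) ≠ oA 0 0 := (oA_ne_oI 0 0).symm
  have hbI : b • (oI : Om F m) = oA 0 0 := by
    rcases hI with hI | hI
    · exfalso
      apply hb'
      rcases h0 with h0 | h0
      · have := smul_left_cancel b (h0.trans hI.symm)
        exact absurd this.symm hne
      · obtain ⟨c, hc⟩ := eq_Dg_of_fix h b hI h0
        exact ⟨c, hc⟩
    · exact hI
  have hb0 : b • (oA 0 0 : Om F m) = oI := by
    rcases h0 with h0 | h0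
    · exact h0
    · have := smul_left_cancel b (h0.trans hbI.symm)
      exact absurd this.symm hne
  obtain ⟨c, hc⟩ := eq_Dg_of_fix h (b * Tg h)
    (by rw [mul_smul, Tg_oI h, hb0])
    (by rw [mul_smul, Tg_oA_zero h, hbI])
  exact ⟨c, hc⟩

theorem card_NN_D : Nat.card (NN (Dsub h)) = 2 * Nat.card (Dsub h) := by
  have hle : Dsub h ≤ NN (Dsub h) := Subgroup.le_normalizer
  have hidx : ((Dsub h).subgroupOf (NN (Dsub h))).index = 2 := by
    rw [Subgroup.index_eq_two_iff]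
    refine ⟨⟨Tg h, T_mem h⟩, fun b => ?_⟩
    simp only [Subgroup.mem_subgroupOf, Subgroup.coe_mul]
    by_cases hb : (b : G F m) ∈ Dsub h
    · refine Or.inr ⟨hb, fun hc => not_mem_D_T h ?_⟩
      have := (Dsub h).mul_mem ((Dsub h).inv_mem hb) hc
      simpa using this
    · exact Or.inl ⟨mul_T_mem h b.2 hb, hb⟩
  have h1 := Subgroup.card_mul_index ((Dsub h).subgroupOf (NN (Dsub h)))
  rw [hidx, Nat.card_congr (Subgroup.subgroupOfEquivOfLe hle).toEquiv] at h1
  rw [← h1, mul_comm]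

theorem real_D : ∀ x ∈ Dsub h, ∃ g : G F m, g * x * g⁻¹ = x⁻¹ := by
  rintro _ ⟨k, rfl⟩
  exact ⟨Tg h, by rw [T_conj h, Dg_inv h]⟩

theorem torus_of_tor (A : Tor F m) : TorusHyp A.1 := by
  refine ⟨?_, ?_⟩
  · intro x hx y hy
    by_cases hx1 : x = 1
    · subst hx1
      simp
    · have h1 := tor_cent h A hx hx1
      rw [← h1] at hy
      exact (Subgroup.mem_centralizer_singleton_iff.mp hy).symm
  · intro x hx hx1 g hg
    have h1 := tor_cent h A hx hx1
    rw [← h1]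
    exact Subgroup.mem_centralizer_singleton_iff.mpr hg

omit h in
theorem fix_fpf {g : G F m} (hg : Fpf g) : Nat.card (MulAction.fixedBy (Om F m) g) = 0 := by
  have : MulAction.fixedBy (Om F m) g = ∅ := by
    ext w
    simp only [MulAction.mem_fixedBy, Set.mem_empty_iff_false, iff_false]
    exact hg w
  rw [this]
  simp

theorem fix_D {k : Fˣ} (hk : k ≠ 1) : Nat.card (MulAction.fixedBy (Om F m) (Dg h k)) = 2 := by
  have : MulAction.fixedBy (Om F m) (Dg h k) = {oI, oA 0 0} := by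
    ext w
    simp only [MulAction.mem_fixedBy, Set.mem_insert_iff, Set.mem_singleton_iff]
    constructor
    · exact Dg_fix h hk
    · rintro (rfl | rfl)
      · exact Dg_oI h k
      · exact Dg_oA_zero h k
  rw [this, Nat.card_coe_set_eq, Set.ncard_pair (oA_ne_oI 0 0).symm]

omit h in
theorem fix_one : Nat.card (MulAction.fixedBy (Om F m) (1 : G F m)) = Fintype.card F ^ 2 + 1 := by
  have : MulAction.fixedBy (Om F m) (1 : G F m) = Set.univ := by
    ext x
    simp [MulAction.mem_fixedBy]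
  rw [this, Nat.card_congr (Equiv.Set.univ (Om F m)), card_Om]

theorem exists_St : ∃ st : IrrCharacter (G F m), ∀ g : G F m,
    ((Nat.card (MulAction.fixedBy (Om F m) g) : ℕ) : ℂ) = 1 + st.1 g := by
  classical
  haveI : Fintype (G F m) := Fintype.ofFinite _
  haveI : Finite (Om F m) := Nat.finite_of_card_ne_zero (by rw [card_Om]; omega)
  haveI : Fintype (Om F m) := Fintype.ofFinite _
  obtain ⟨χ₁, -, hπ⟩ := Cfsg.Agent.Lib.Zass.Rows5.exists_chi1 (isZassenhaus h)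
    (oA_ne_oI (m := m) (0 : F) 0).symm
  refine ⟨χ₁, fun g => ?_⟩
  exact congrFun hπ g

theorem not_conj : ¬ IsConj (Lg h 1 0) (Lg h 1 0)⁻¹ := by
  intro hc
  obtain ⟨x, hx⟩ := isConj_iff.mp hc
  rw [Lg_inv h] at hx
  have hB := mem_Bor_of_conj h (a := 1) (b := 0) (Or.inl one_ne_zero) hx
  obtain ⟨c, d, k, rfl⟩ := stab_oI h x (MulAction.mem_stabilizer_iff.mp hB)
  rw [conj_Bor_Lg h] at hx
  obtain ⟨e1, e2⟩ := Lg_inj h hx
  have hk : (k : F) = 1 := by simpa using e1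
  rw [hk] at e2
  simp only [mul_one, one_pow, mul_zero, zero_add] at e2
  apply h.as_ne_zero c
  have h0 := h.two_eq_zero
  linear_combination e2 + h0

theorem not_conj_D_tor (A : Tor F m) :
    ∀ x ∈ Dsub h, ∀ y ∈ A.1, x ≠ 1 → y ≠ 1 → ¬ IsConj x y := by
  rintro _ ⟨k, rfl⟩ y hy _ hy1 hc
  obtain ⟨c, hc⟩ := isConj_iff.mp hc
  have hf := tor_fpf h A hy hy1
  rw [← hc] at hf
  exact hf (c • oI) (by rw [mul_smul, mul_smul, inv_smul_smul, Dg_oI h])

omit h in
theorem not_conj_cop {A B : Subgroup (G F m)} (hcop : Nat.Coprime (Nat.card A) (Nat.card B)) :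
    ∀ x ∈ A, ∀ y ∈ B, x ≠ 1 → y ≠ 1 → ¬ IsConj x y := by
  intro x hx y hy hx1 _ hc
  obtain ⟨c, hc⟩ := isConj_iff.mp hc
  have h1 : orderOf x ∣ Nat.card A := Subgroup.orderOf_dvd_natCard _ hx
  have h2 : orderOf y ∣ Nat.card B := Subgroup.orderOf_dvd_natCard _ hy
  have h3 : orderOf y = orderOf x := by
    rw [← hc, ← MulAut.conj_apply]
    exact (MulAut.conj c).orderOf_eq x
  rw [h3] at h2
  exact hx1 (orderOf_eq_one_iff.mp (Nat.eq_one_of_dvd_coprimes hcop h1 h2))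

set_option maxHeartbeats 2000000 in
/-- The list of degrees. -/
theorem deg_main (q r : ℤ) (hq : q = 2 ^ (2 * m + 1)) (hr : r = 2 ^ (m + 1)) :
    (∀ χ : IrrCharacter (G F m), ((charDegree χ.1 : ℕ) : ℤ) = 1 ∨ ((charDegree χ.1 : ℕ) : ℤ) = q ^ 2 ∨
      2 * ((charDegree χ.1 : ℕ) : ℤ) = r * (q - 1) ∨ ((charDegree χ.1 : ℕ) : ℤ) = q ^ 2 + 1 ∨
      ((charDegree χ.1 : ℕ) : ℤ) = (q - 1) * (q + 1 - r) ∨
      ((charDegree χ.1 : ℕ) : ℤ) = (q - 1) * (q + 1 + r)) ∧
    (∃ χ : IrrCharacter (G F m), ((charDegree χ.1 : ℕ) : ℤ) = q ^ 2) ∧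
    (∃ χ : IrrCharacter (G F m), 2 * ((charDegree χ.1 : ℕ) : ℤ) = r * (q - 1)) ∧
    (∃ χ : IrrCharacter (G F m), ((charDegree χ.1 : ℕ) : ℤ) = q ^ 2 + 1) ∧
    (∃ χ : IrrCharacter (G F m), ((charDegree χ.1 : ℕ) : ℤ) = (q - 1) * (q + 1 - r)) ∧
    (∃ χ : IrrCharacter (G F m), ((charDegree χ.1 : ℕ) : ℤ) = (q - 1) * (q + 1 + r)) := by
  classical
  haveI : Fintype (G F m) := Fintype.ofFinite _
  haveI : Finite (IrrCharacter (G F m)) := Cfsg.Agent.Lib.Char.Complete.finite_irr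
  letI : Fintype (IrrCharacter (G F m)) := Fintype.ofFinite _
  obtain ⟨A1, A2, -, hN1, hN2, hc1, hc2⟩ := tori_main h
  have hm := h.hm
  -- arithmetic of `q`, `r`
  have hq8 : 8 ≤ q := by
    rw [hq]
    calc (8 : ℤ) = 2 ^ 3 := by norm_num
      _ ≤ 2 ^ (2 * m + 1) := pow_le_pow_right₀ (by norm_num) (by omega)
  have hr2 : r ^ 2 = 2 * q := by
    rw [hq, hr, ← pow_mul, ← pow_succ']
    congr 1
    ring
  have hr0 : 0 < r := by
    rw [hr]
    positivity
  have hF : (Fintype.card F : ℤ) = q := by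
    rw [h.hF, hq]
    push_cast
    rfl
  have hFpos : 1 ≤ Fintype.card F := Fintype.card_pos
  have hcD : (Nat.card (Dsub h) : ℤ) = q - 1 := by
    rw [card_Dsub h, Nat.cast_sub hFpos, hF]
    rfl
  have hca1 : (Nat.card A1.1 : ℤ) = q + r + 1 := by
    rw [hc1, hq, hr]
    push_cast
    rfl
  have hca2 : (Nat.card A2.1 : ℤ) = q - r + 1 := by
    rw [hc2, hq, hr]
    have hle : 2 ^ (m + 1) ≤ 2 ^ (2 * m + 1) := Nat.pow_le_pow_right (by norm_num) (by omega)
    push_cast [Nat.cast_sub hle]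
    rfl
  have hcop12 : Nat.Coprime (Nat.card A1.1) (Nat.card A2.1) := by
    rw [← Nat.isCoprime_iff_coprime, hca1, hca2, hq, hr]
    exact cop2 m
  have hcop1 : IsCoprime (q - 1) (q ^ 2 + 1) := by
    rw [hq]
    exact cop1 m
  have hcop2 : IsCoprime (q + r + 1) (q - r + 1) := by
    rw [hq, hr]
    exact cop2 m
  -- the tori
  have hTD := Dtorus h
  have hT1 := torus_of_tor h A1
  have hT2 := torus_of_tor h A2
  letI : Fintype (Dsub h) := Fintype.ofFinite _
  letI : Fintype A1.1 := Fintype.ofFinite _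
  letI : Fintype A2.1 := Fintype.ofFinite _
  have hAD := comm' hTD
  have hA1 := comm' hT1
  have hA2 := comm' hT2
  haveI := finite_dual' hAD
  haveI := finite_dual' hA1
  haveI := finite_dual' hA2
  letI : Fintype (Lm (Dsub h)) := Fintype.ofFinite _
  letI : Fintype (Lm A1.1) := Fintype.ofFinite _
  letI : Fintype (Lm A2.1) := Fintype.ofFinite _
  have cD : (Fintype.card (Lm (Dsub h)) : ℤ) = q - 2 := by
    have := card_Lm hAD
    rw [Nat.card_eq_fintype_card (α := Lm (Dsub h))] at this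
    have h2 : (Fintype.card (Lm (Dsub h)) : ℤ) + 1 = (Nat.card (Dsub h) : ℤ) := by exact_mod_cast this
    rw [hcD] at h2
    linarith
  have c1 : (Fintype.card (Lm A1.1) : ℤ) = q + r := by
    have := card_Lm hA1
    rw [Nat.card_eq_fintype_card (α := Lm A1.1)] at this
    have h2 : (Fintype.card (Lm A1.1) : ℤ) + 1 = (Nat.card A1.1 : ℤ) := by exact_mod_cast this
    rw [hca1] at h2
    linarith
  have c2 : (Fintype.card (Lm A2.1) : ℤ) = q - r := by
    have := card_Lm hA2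
    rw [Nat.card_eq_fintype_card (α := Lm A2.1)] at this
    have h2 : (Fintype.card (Lm A2.1) : ℤ) + 1 = (Nat.card A2.1 : ℤ) := by exact_mod_cast this
    rw [hca2] at h2
    linarith
  -- the characters
  obtain ⟨st, hst⟩ := exists_St h
  obtain ⟨θ, hθ⟩ := exists_nonreal (G := G F m) (u := Lg h 1 0) (not_conj h)
  let thb : IrrCharacter (G F m) :=
    ⟨fun g => conj (θ.1 g), Cfsg.Agent.Lib.Char.RealOver.isIrr_conj θ.2⟩
  let one : IrrCharacter (G F m) := ⟨fun _ => 1, Cfsg.Agent.Lib.Char.IndNormal.isIrrCharacter_principal⟩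
  set u := Lg h 1 0 with hu
  have hstv : ∀ g, st.1 g = ((Nat.card (MulAction.fixedBy (Om F m) g) : ℕ) : ℂ) - 1 := by
    intro g
    rw [hst g]
    ring
  have hrealst : conj (st.1 u) = st.1 u := by
    rw [hstv]
    simp
  have hrealone : conj (one.1 u) = one.1 u := by
    simp [one]
  have hnth : ¬ (conj (θ.1 u) = θ.1 u) := hθ
  have hnthb : ¬ (conj (thb.1 u) = thb.1 u) := by
    intro hc
    apply hθ
    simp only [thb, Complex.conj_conj] at hc
    exact hc.symm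
  have hstone : st.1 1 = ((q ^ 2 : ℤ) : ℂ) := by
    rw [hstv, fix_one, ← hF]
    push_cast
    ring
  have hdone : charDegree one.1 = 1 := by
    unfold charDegree
    simp [one]
  have hdst : ((charDegree st.1 : ℕ) : ℤ) = q ^ 2 := by
    have h1 := Cfsg.Agent.Lib.Char.Values.IsCharacter.charDegree_cast
      (Cfsg.Agent.Lib.Char.Basic.isCharacter_of_isIrrCharacter st.2)
    rw [hstone] at h1
    exact_mod_cast h1
  have hdthb : ((charDegree thb.1 : ℕ) : ℤ) = ((charDegree θ.1 : ℕ) : ℤ) := by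
    have h1 : charDegree thb.1 = charDegree θ.1 := by
      have h2 := Cfsg.Agent.Lib.Char.Values.IsCharacter.charDegree_cast
        (Cfsg.Agent.Lib.Char.Basic.isCharacter_of_isIrrCharacter θ.2)
      have h3 := Cfsg.Agent.Lib.Char.Values.IsCharacter.charDegree_cast
        (Cfsg.Agent.Lib.Char.Basic.isCharacter_of_isIrrCharacter thb.2)
      have h4 : thb.1 1 = conj (θ.1 1) := rfl
      rw [h4, ← h2, Complex.conj_natCast] at h3
      exact_mod_cast h3
    rw [h1]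
  have hdpos : ∀ χ : IrrCharacter (G F m), 1 ≤ ((charDegree χ.1 : ℕ) : ℤ) := by
    intro χ
    obtain ⟨n, hn, h1⟩ := Cfsg.Agent.Lib.Char.Ortho.irr_degree_pos χ.2
    rw [Cfsg.Agent.Lib.Char.Values.IsCharacter.charDegree_eq
      (Cfsg.Agent.Lib.Char.Basic.isCharacter_of_isIrrCharacter χ.2) h1]
    exact_mod_cast hn
  have hsum : ∑ χ : IrrCharacter (G F m), ((charDegree χ.1 : ℕ) : ℤ) ^ 2 =
      q ^ 2 * (q ^ 2 + 1) * (q - 1) := by
    have h1 := Cfsg.Agent.Lib.Char.CompleteCor.sum_sq_degrees (G := G F m)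
    rw [card_G h] at h1
    have h2 : ((∑ χ : IrrCharacter (G F m), ((charDegree χ.1 : ℕ) : ℤ) ^ 2 : ℤ) : ℂ) =
        ((q ^ 2 * (q ^ 2 + 1) * (q - 1) : ℤ) : ℂ) := by
      push_cast
      have h3 : ∀ χ : IrrCharacter (G F m), ((charDegree χ.1 : ℕ) : ℂ) ^ 2 = (χ : G F m → ℂ) 1 ^ 2 := by
        intro χ
        rw [Cfsg.Agent.Lib.Char.Values.IsCharacter.charDegree_cast
          (Cfsg.Agent.Lib.Char.Basic.isCharacter_of_isIrrCharacter χ.2)]
      simp only [h3]
      rw [h1]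
      push_cast [Nat.cast_sub hFpos]
      rw [← hF]
      push_cast
      rfl
    exact_mod_cast h2
  -- values on the tori
  have hone_val : ∀ {A : Subgroup (G F m)} [Fintype A] (l : Lm A), gzL A l one = -1 := by
    intro A _ l
    have := gz_const (s := 1) l one (fun x _ => by simp [one])
    simpa using this
  have hst0 : ∀ l : Lm (Dsub h), gzL (Dsub h) l st = -1 := by
    intro l
    have := gz_const (s := 1) l st (fun x hx => by
      obtain ⟨k, hk⟩ := x.2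
      have hk1 : k ≠ 1 := by
        rintro rfl
        apply hx
        apply Subtype.ext
        rw [hk, Dg_one h]
        rfl
      rw [hstv, hk, fix_D h hk1]
      norm_num)
    simpa using this
  have hstT : ∀ (A : Tor F m) [Fintype A.1] (l : Lm A.1), gzL A.1 l st = 1 := by
    intro A _ l
    have := gz_const (s := -1) l st (fun x hx => by
      have hf := tor_fpf h A x.2 (fun h => hx (Subtype.ext h))
      rw [hstv, fix_fpf hf]
      norm_num)
    simpa using this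
  have key := Cfsg.Agent.Lib.SzChar.Num.main
    (X := IrrCharacter (G F m)) (fun χ => ((charDegree χ.1 : ℕ) : ℤ)) hdpos one st θ thb
    (by
      intro e
      have h1 := hdst
      rw [← e, hdone] at h1
      have h2 : (8 : ℤ) ^ 2 ≤ q ^ 2 := pow_le_pow_left₀ (by norm_num) hq8 2
      push_cast at h1
      omega)
    (by intro e; apply hnth; rw [← e]; exact hrealone)
    (by intro e; apply hnthb; rw [← e]; exact hrealone)
    (by intro e; apply hnth; rw [← e]; exact hrealst)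
    (by intro e; apply hnthb; rw [← e]; exact hrealst)
    (by
      intro e
      apply hθ
      have h1 : thb.1 u = θ.1 u := by rw [← e]
      exact h1)
    q r ((charDegree θ.1 : ℕ) : ℤ) hq8 hr2 hr0 hsum (by simp [hdone]) hdst rfl hdthb
    (gzL (Dsub h)) (gzL A1.1) (gzL A2.1) (relL (Dsub h)) (relL A1.1) (relL A2.1)
    (fam hTD (card_NN_D h)) (fam hT1 hN1) (fam hT2 hN2) cD c1 c2
    (fun l => hone_val l) (fun l => hone_val l) (fun l => hone_val l) hst0 (hstT A1) (hstT A2)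
    (fun l => gz_conj (real_D h) l θ thb (fun _ => rfl))
    (fun l => gz_conj (real_of_normalizer hT1 (odd_card_tor h A1) ⟨2 * Nat.card A1.1, by rw [hN1]; ring⟩) l θ thb (fun _ => rfl))
    (fun l => gz_conj (real_of_normalizer hT2 (odd_card_tor h A2) ⟨2 * Nat.card A2.1, by rw [hN2]; ring⟩) l θ thb (fun _ => rfl))
    (fun l k => sum_gz_cross (not_conj_D_tor h A1) l.1 k.1)
    (fun l k => sum_gz_cross (not_conj_D_tor h A2) l.1 k.1)
    (fun l k => sum_gz_cross (not_conj_cop hcop12) l.1 k.1)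
    (fun hv => by
      have := dvd_of_vanish hTD θ hv
      rwa [hcD] at this)
    (fun hv => by
      have := dvd_of_vanish hT1 θ hv
      rwa [hca1] at this)
    (fun hv => by
      have := dvd_of_vanish hT2 θ hv
      rwa [hca2] at this)
    hcop1 hcop2
  obtain ⟨k1, k2, k3, k4, k5⟩ := key
  refine ⟨k1, ⟨st, hdst⟩, ⟨θ, k2⟩, k3, k4, k5⟩

end Cfsg.Agent.Lib.SzChar.Main
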